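import Cfsg.Agent.H636.BR.FamGeo
import Cfsg.Agent.H31.BR.PolRow

/-!
# S4891: one family of maximal totally singular subspaces of a quadric of plus type (helper636)

* `famS` : `POmega F Q` acts on the family `Fam U0` of `U0`;
* `famS_int` : the constituents of the permutation character are integer valued;
* `famS_inv` : it is invariant under automorphisms of odd order induced by semisimilarities;
* `card_fam` : `2 |Fam U0| = |X m|`;
* `rowZ_fam` : if `p` divides `|X m|`, then `RowZ p (POmega F Q)`.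
-/

set_option autoImplicit false
set_option linter.unusedSectionVars false

namespace Cfsg.Agent.H636.BR

open Module QuadraticMap Cfsg Cfsg.Agent.H2.Pol Cfsg.Agent.H674.BR Cfsg.Agent.H410.BR Cfsg.Agent.H145.BR
open Cfsg.Agent.Characters Cfsg.Agent.Characters.Core
open Cfsg.Agent.LieClassical Cfsg.Agent.LieClassical.OrthCore Cfsg.Agent.LieClassical.OrthForms
  Cfsg.Agent.LieClassical.OrthTrans Cfsg.Agent.LieClassical.OrthFinite

/-- Inner products along a surjective homomorphism. -/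
theorem inner_surj {M N : Type*} [Group M] [Fintype M] [Group N] [Fintype N]
    (p : M →* N) (hp : Function.Surjective p) (f g : N → ℂ) : classInner (f ∘ p) (g ∘ p) = classInner f g := by
  classical
  rw [classInner_def, classInner_def]
  have hfib : ∀ y : N, (Finset.univ.filter (fun x : M => p x = y)).card = Nat.card p.ker := by
    intro y
    obtain ⟨x₀, rfl⟩ := hp y
    rw [← Fintype.card_subtype, ← Nat.card_eq_fintype_card]
    refine Nat.card_congr ⟨fun x => ⟨x₀⁻¹ * x, ?_⟩, fun k => ⟨x₀ * k, ?_⟩, ?_, ?_⟩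
    · rw [MonoidHom.mem_ker, map_mul, map_inv, x.2, inv_mul_cancel]
    · rw [map_mul, MonoidHom.mem_ker.1 k.2, mul_one]
    · intro x
      exact Subtype.ext (mul_inv_cancel_left _ _)
    · intro k
      exact Subtype.ext (inv_mul_cancel_left _ _)
  have h1 : ∑ x : M, (f ∘ p) x * (starRingEnd ℂ) ((g ∘ p) x) =
      Nat.card p.ker * ∑ y : N, f y * (starRingEnd ℂ) (g y) := by
    rw [← Finset.sum_fiberwise Finset.univ p, Finset.mul_sum]
    refine Finset.sum_congr rfl fun y _ => ?_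
    rw [Finset.sum_congr rfl (g := fun _ => f y * (starRingEnd ℂ) (g y)) (fun x hx => by
      rw [Function.comp_apply, Function.comp_apply, (Finset.mem_filter.1 hx).2]), Finset.sum_const, hfib, nsmul_eq_mul]
  rw [h1]
  have h2 : (Nat.card M : ℂ) = Nat.card p.ker * Nat.card N := by
    have h3 := p.ker.card_mul_index
    rw [Subgroup.index_ker, MonoidHom.range_eq_top.2 hp, Subgroup.card_top] at h3
    exact_mod_cast h3.symm
  have h4 : (Nat.card p.ker : ℂ) ≠ 0 := by exact_mod_cast Nat.card_pos.ne'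
  rw [h2, mul_inv, mul_comm (Nat.card p.ker : ℂ)⁻¹, mul_assoc, inv_mul_cancel_left₀ h4]

section Fix

variable {F V : Type*} [Field F] [AddCommGroup V] [Module F V] [FiniteDimensional F V] {Q : QuadraticForm F V}
  [Finite F] {m : ℕ}

/-- a maximal totally singular subspace is its own orthogonal space -/
theorem mem_of_perp (h : Typ Q m 0) (U : (quadPol Q).X m) {x : V} (hx : ∀ y ∈ U.1, polar Q y x = 0) : x ∈ U.1 := by
  have h1 := finrank_pp h.nondeg U.1
  have h2 : U.1 ≤ (quadPol Q).perp U.1 := fun a ha b hb => U.2.1.2 a ha b hb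
  have h3 : U.1 = (quadPol Q).perp U.1 := by
    apply Submodule.eq_of_le_of_finrank_eq h2
    rw [perp_eq_pp]
    have h4 : finrank F ↥U.1 = m := U.2.2
    have h5 := h.dim
    omega
  rw [h3]
  intro y hy
  show polar Q x y = 0
  rw [polar_comm]
  exact hx y hy

/-- the stabilizer of `U` in `E Q` fixes only `U` -/
theorem eq_of_stab (h : Typ Q m 0) (hm : 2 ≤ m) (U W : (quadPol Q).X m)
    (hst : ∀ g ∈ E Q, U.1.map (g : V →ₗ[F] V) = U.1 → W.1.map (g : V →ₗ[F] V) = W.1) : W = U := by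
  have hU : finrank F ↥U.1 = m := U.2.2
  have hW : finrank F ↥W.1 = m := W.2.2
  by_contra hne
  obtain ⟨u, huU, huW⟩ : ∃ u ∈ U.1, u ∉ W.1 := by
    by_contra hcon
    push Not at hcon
    exact hne (Subtype.ext (Submodule.eq_of_le_of_finrank_eq hcon (hU.trans hW.symm))).symm
  have hu0 : Q u = 0 := U.2.1.1 u huU
  obtain ⟨w₁, hw₁, hne₁⟩ : ∃ w ∈ W.1, polar Q u w ≠ 0 := by
    by_contra hcon
    push Not at hcon
    exact huW (mem_of_perp h W fun y hy => by rw [polar_comm]; exact hcon y hy)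
  set w₀ := (polar Q u w₁)⁻¹ • w₁ with hw₀
  have hw₀W : w₀ ∈ W.1 := W.1.smul_mem _ hw₁
  have hw₀p : polar Q u w₀ = 1 := by
    rw [hw₀, polar_smul_right, smul_eq_mul, inv_mul_cancel₀ hne₁]
  obtain ⟨y, hyU, hyu⟩ : ∃ y ∈ U.1, y ∉ Submodule.span F {u} := by
    by_contra hcon
    push Not at hcon
    have h1 : U.1 ≤ Submodule.span F {u} := hcon
    have h2 := Submodule.finrank_mono h1
    have h3 := finrank_span_le_card (R := F) ({u} : Set V)
    simp only [Set.toFinset_singleton, Finset.card_singleton] at h3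
    omega
  have hpUU : ∀ a ∈ U.1, ∀ b ∈ U.1, polar Q a b = 0 := fun a ha b hb => U.2.1.2 a ha b hb
  -- first Siegel transformation
  have h1 : y - polar Q y w₀ • u ∈ W.1 := by
    have hs : U.1.map ((siegel Q u y hu0 (hpUU u huU y hyU) : V ≃ₗ[F] V) : V →ₗ[F] V) = U.1 := by
      apply map_eq_of_le
      rintro _ ⟨x, hx, rfl⟩
      show siegel Q u y _ _ x ∈ U.1
      rw [siegel_apply, hpUU u huU x hx, hpUU y hyU x hx, zero_smul, zero_smul, mul_zero, zero_smul, add_zero, sub_zero,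
        sub_zero]
      exact hx
    have h2 := hst _ (siegel_mem_E hu0 (hpUU u huU y hyU)) hs
    have h3 : siegel Q u y hu0 (hpUU u huU y hyU) w₀ ∈ W.1 := by
      have h4 : siegel Q u y hu0 (hpUU u huU y hyU) w₀ ∈
          W.1.map ((siegel Q u y hu0 (hpUU u huU y hyU) : V ≃ₗ[F] V) : V →ₗ[F] V) := ⟨w₀, hw₀W, rfl⟩
      rwa [h2] at h4
    rw [siegel_apply, hw₀p, one_smul, U.2.1.1 y hyU, zero_mul, zero_smul, sub_zero] at h3
    have h4 := W.1.sub_mem h3 hw₀W
    have h5 : w₀ + y - polar Q y w₀ • u - w₀ = y - polar Q y w₀ • u := by abel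
    rwa [h5] at h4
  set b := y - polar Q y w₀ • u with hb
  have hbU : b ∈ U.1 := U.1.sub_mem hyU (U.1.smul_mem _ huU)
  have hb0 : b ≠ 0 := by
    intro h0
    apply hyu
    rw [hb, sub_eq_zero] at h0
    rw [h0]
    exact Submodule.smul_mem _ _ (Submodule.mem_span_singleton_self u)
  obtain ⟨w, hw1, hw2⟩ := exists_sep (Q := Q) (x := b) (z := u) h.nondeg (fun c hc => by
    have hc0 : c ≠ 0 := by
      rintro rfl
      rw [zero_smul] at hc
      exact hb0 hc
    exact huW ((Submodule.smul_mem_iff _ hc0).1 (hc ▸ h1)))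
  have hs : U.1.map ((siegel Q u w hu0 hw1 : V ≃ₗ[F] V) : V →ₗ[F] V) = U.1 := by
    apply map_eq_of_le
    rintro _ ⟨x, hx, rfl⟩
    show siegel Q u w _ _ x ∈ U.1
    rw [siegel_apply, hpUU u huU x hx, zero_smul, mul_zero, zero_smul, add_zero, sub_zero]
    exact U.1.sub_mem hx (U.1.smul_mem _ huU)
  have h2 := hst _ (siegel_mem_E hu0 hw1) hs
  have h3 : siegel Q u w hu0 hw1 b ∈ W.1 := by
    have h4 : siegel Q u w hu0 hw1 b ∈ W.1.map ((siegel Q u w hu0 hw1 : V ≃ₗ[F] V) : V →ₗ[F] V) := ⟨b, h1, rfl⟩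
    rwa [h2] at h4
  have hwb : polar Q w b = 1 := by rw [polar_comm]; exact hw2
  rw [siegel_apply, hpUU u huU b hbU, zero_smul, mul_zero, zero_smul, add_zero, sub_zero, hwb, one_smul] at h3
  have h5 := W.1.sub_mem h1 h3
  rw [sub_sub_cancel] at h5
  exact huW h5

theorem SemiAct.sub_inf {M : V ≃+ V} (hM : SemiAct (quadPol Q) M) (U W : Submodule F V) :
    hM.sub (U ⊓ W) = hM.sub U ⊓ hM.sub W := by
  ext v
  obtain ⟨x, rfl⟩ := M.surjective v
  rw [hM.mem_sub, Submodule.mem_inf, Submodule.mem_inf, hM.mem_sub, hM.mem_sub]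

theorem same_perm {M : V ≃+ V} (hM : SemiAct (quadPol Q) M) (U W : (quadPol Q).X m) :
    same (hM.perm m U) (hM.perm m W) ↔ same U W := by
  have h1 : finrank F ↥(hM.sub U.1 ⊓ hM.sub W.1) = finrank F ↥(U.1 ⊓ W.1) := by
    rw [← SemiAct.sub_inf, hM.finrank]
  show Even (finrank F ↥(hM.sub U.1 ⊓ hM.sub W.1) + m) ↔ Even (finrank F ↥(U.1 ⊓ W.1) + m)
  rw [h1]

end Fix

section Om

variable {F : Type*} [Field F] [Finite F] {ι : Type} [Fintype ι] [DecidableEq ι] {Q : QuadraticForm F (ι → F)} {m : ℕ}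

/-- the elements of `Omega F Q` as isometries -/
noncomputable def omO (hG : Good Q) : Cfsg.Omega F ⇑Q →* O Q :=
  (omRho Q).codRestrict (O Q) (fun g => E_le_O (omRho_mem_E hG g))

theorem omO_keep (h : Typ Q m 0) (hG : Good Q) (U0 : (quadPol Q).X m) (g : Cfsg.Omega F ⇑Q) :
    omO hG g ∈ keep (O Q) (same U0) := E_keep h hG U0 (omRho_mem_E hG g) _

/-- the family of `U0` -/
abbrev Fam (U0 : (quadPol Q).X m) : Type _ := {U : (quadPol Q).X m // same U0 U}

/-- `Omega F Q` acts on one family -/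
@[reducible] noncomputable def famOm (h : Typ Q m 0) (hG : Good Q) (U0 : (quadPol Q).X m) :
    MulAction (Cfsg.Omega F ⇑Q) (Fam U0) where
  smul g U := ⟨omO hG g • U.1, (omO_keep h hG U0 g U.1).2 U.2⟩
  one_smul U := Subtype.ext (by
    show omO hG 1 • U.1 = U.1
    rw [map_one, one_smul])
  mul_smul g g' U := Subtype.ext (by
    show omO hG (g * g') • U.1 = omO hG g • omO hG g' • U.1
    rw [map_mul, mul_smul])

/-- the quotient map -/
abbrev omPi (Q : QuadraticForm F (ι → F)) : Cfsg.Omega F ⇑Q →* Cfsg.POmega F ⇑Q :=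
  QuotientGroup.mk' (Subgroup.center (Cfsg.Omega F ⇑Q))

theorem omO_eq (hG : Good Q) {g g' : Cfsg.Omega F ⇑Q} (e : omPi Q g = omPi Q g') (U : (quadPol Q).X m) :
    omO hG g • U = omO hG g' • U := (om_model hG).act_eq m e U

theorem omPi_surj : Function.Surjective (omPi Q) := QuotientGroup.mk'_surjective _

/-- `POmega F Q` acts on one family -/
@[reducible] noncomputable def famS (h : Typ Q m 0) (hG : Good Q) (U0 : (quadPol Q).X m) :
    MulAction (Cfsg.POmega F ⇑Q) (Fam U0) where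
  smul s U := ⟨omO hG (Function.surjInv omPi_surj s) • U.1, (omO_keep h hG U0 _ U.1).2 U.2⟩
  one_smul U := Subtype.ext (by
    show omO hG (Function.surjInv omPi_surj 1) • U.1 = U.1
    rw [omO_eq hG (g' := 1) (by rw [map_one, Function.surjInv_eq omPi_surj]), map_one, one_smul])
  mul_smul s s' U := Subtype.ext (by
    show omO hG (Function.surjInv omPi_surj (s * s')) • U.1 =
      omO hG (Function.surjInv omPi_surj s) • omO hG (Function.surjInv omPi_surj s') • U.1
    rw [smul_smul, ← map_mul]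
    apply omO_eq hG
    rw [map_mul, Function.surjInv_eq omPi_surj, Function.surjInv_eq omPi_surj, Function.surjInv_eq omPi_surj])

theorem famS_smul (h : Typ Q m 0) (hG : Good Q) (U0 : (quadPol Q).X m) (g : Cfsg.Omega F ⇑Q) (U : Fam U0) :
    (letI := famS h hG U0; (omPi Q g • U).1) = omO hG g • U.1 :=
  omO_eq hG (Function.surjInv_eq omPi_surj _) U.1

/-- two members of a family are conjugate under `Omega F Q`, also pairs with the same invariants -/
theorem fam_pair (h : Typ Q m 0) (hG : Good Q) (U0 : (quadPol Q).X m) (x y x' y' : Fam U0)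
    (hg : ∃ g : O Q, g • x.1 = x'.1 ∧ g • y.1 = y'.1) :
    ∃ g : Cfsg.Omega F ⇑Q, omO hG g • x.1 = x'.1 ∧ omO hG g • y.1 = y'.1 := by
  obtain ⟨g, h1, h2⟩ := hg
  have hs : same x.1 x'.1 := by
    have h3 := same_iff h x.1 U0 x'.1
    have h4 : same x.1 U0 ↔ same U0 x.1 := by
      show Even (finrank F ↥(x.1.1 ⊓ U0.1) + m) ↔ Even (finrank F ↥(U0.1 ⊓ x.1.1) + m)
      rw [inf_comm]
    have h5 := x.2
    have h6 := x'.2
    tauto
  obtain ⟨k, hk, e1, e2⟩ := pair_E h hG hs g h1 h2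
  obtain ⟨g', rfl⟩ := exists_om hG hk
  exact ⟨g', Subtype.ext e1, Subtype.ext e2⟩

theorem famS_pretransitive (h : Typ Q m 0) (hG : Good Q) (U0 : (quadPol Q).X m) :
    letI := famS h hG U0; MulAction.IsPretransitive (Cfsg.POmega F ⇑Q) (Fam U0) := by
  let _ := famS h hG U0
  refine ⟨fun x y => ?_⟩
  obtain ⟨g, hg, -⟩ := selfpaired h x.1 y.1
  obtain ⟨g', h1, -⟩ := fam_pair h hG U0 x x y y ⟨g, hg, hg⟩
  exact ⟨omPi Q g', Subtype.ext ((famS_smul h hG U0 g' x).trans h1)⟩

theorem finite_lin : Finite ((ι → F) ≃ₗ[F] (ι → F)) := DFunLike.finite _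

/-- **the constituents are integer valued** -/
theorem famS_int (h : Typ Q m 0) (hG : Good Q) (U0 : (quadPol Q).X m) [Fintype (Cfsg.POmega F ⇑Q)]
    (χ : IrrCharacter (Cfsg.POmega F ⇑Q))
    (h0 : letI := famS h hG U0; classInner (permC (Cfsg.POmega F ⇑Q) (Fam U0)) (χ : Cfsg.POmega F ⇑Q → ℂ) ≠ 0)
    (s : Cfsg.POmega F ⇑Q) : ∃ k : ℤ, (χ : Cfsg.POmega F ⇑Q → ℂ) s = k := by
  classical
  let _ := famS h hG U0
  let _ := famOm h hG U0
  have _ : Finite ((ι → F) ≃ₗ[F] (ι → F)) := finite_lin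
  have _ := Fintype.ofFinite (O Q)
  have _ := Fintype.ofFinite (Cfsg.Omega F ⇑Q)
  obtain ⟨g, rfl⟩ := omPi_surj (Q := Q) s
  have hp : permC (Cfsg.Omega F ⇑Q) (Fam U0) = permC (Cfsg.POmega F ⇑Q) (Fam U0) ∘ omPi Q := by
    funext g
    show (Nat.card _ : ℂ) = (Nat.card _ : ℂ)
    congr 1
    refine Nat.card_congr (Equiv.subtypeEquivRight fun U => ?_)
    rw [MulAction.mem_fixedBy, MulAction.mem_fixedBy, Subtype.ext_iff, Subtype.ext_iff, famS_smul h hG U0 g U]
    rfl
  have h1 : classInner (permC (Cfsg.Omega F ⇑Q) (Fam U0)) ((χ : Cfsg.POmega F ⇑Q → ℂ) ∘ omPi Q) ≠ 0 := by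
    rw [hp, inner_surj _ omPi_surj]
    exact h0
  exact fam_int (I := O Q) (X := (quadPol Q).X m) (halves h hG U0) (selfpaired h) (fun χ hχ h2 g => O_int h m hχ h2 g)
    (omO hG) (omO_keep h hG U0) (fun g U => rfl)
    (fun x y x' y' hg => by
      obtain ⟨g, h2, h3⟩ := fam_pair h hG U0 x y x' y' hg
      exact ⟨g, Subtype.ext h2, Subtype.ext h3⟩) (isIrr_comp (omPi Q) omPi_surj χ.2) h1 g

/-- the size of a family -/
theorem card_fam (h : Typ Q m 0) (hG : Good Q) (U0 : (quadPol Q).X m) :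
    2 * Nat.card (Fam U0) = Nat.card ((quadPol Q).X m) := by
  classical
  obtain ⟨s, hs⟩ := (halves h hG U0).swap
  have h1 : Nat.card {U : (quadPol Q).X m // ¬ same U0 U} = Nat.card (Fam U0) := by
    refine Nat.card_congr
      { toFun := fun U => ⟨s • U.1, (hs U.1).2 U.2⟩
        invFun := fun U => ⟨s⁻¹ • U.1, ?_⟩
        left_inv := fun U => Subtype.ext (inv_smul_smul s U.1)
        right_inv := fun U => Subtype.ext (smul_inv_smul s U.1) }
    have h2 := hs (s⁻¹ • U.1)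
    rw [smul_inv_smul] at h2
    exact h2.1 U.2
  have h2 : Nat.card ((quadPol Q).X m) = Nat.card (Fam U0 ⊕ {U : (quadPol Q).X m // ¬ same U0 U}) :=
    Nat.card_congr (Equiv.sumCompl (same U0)).symm
  rw [h2, Nat.card_sum, h1, two_mul]

/-- a semisimilarity inducing an automorphism of odd order preserves the families -/
theorem perm_keep (h : Typ Q m 0) (hm : 2 ≤ m) (hG : Good Q) (U0 : (quadPol Q).X m) {M : (ι → F) ≃+ (ι → F)}
    (hM : SemiAct (quadPol Q) M) {a : MulAut (Cfsg.POmega F ⇑Q)} (ha : Induces (omRho Q) (omPi Q) M a) {n : ℕ}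
    (hn : Odd n) (han : a ^ n = 1) (U : (quadPol Q).X m) : same U0 (hM.perm m U) ↔ same U0 U := by
  set P : Equiv.Perm ((quadPol Q).X m) := hM.perm m with hP
  let _ := (om_model hG).mulAction m
  -- the permutation is semi-equivariant
  have h1 : ∀ (s : Cfsg.POmega F ⇑Q) (U : (quadPol Q).X m), P (s • U) = a s • P U := by
    intro s U
    obtain ⟨g, rfl⟩ := omPi_surj (Q := Q) s
    obtain ⟨g', hg', hm'⟩ := ha g
    have e1 : omPi Q g • U = (om_acts hG).act m g U := (om_model hG).smul_eq m g U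
    have e2 : a (omPi Q g) • P U = (om_acts hG).act m g' (P U) := by
      rw [← hg']
      exact (om_model hG).smul_eq m g' (P U)
    rw [e1, e2]
    apply Subtype.ext
    show hM.sub (U.1.map (omRho Q g : (ι → F) →ₗ[F] (ι → F))) =
      (hM.sub U.1).map (omRho Q g' : (ι → F) →ₗ[F] (ι → F))
    ext v
    constructor
    · rintro ⟨_, ⟨x, hx, rfl⟩, rfl⟩
      exact ⟨M x, ⟨x, hx, rfl⟩, hm' x⟩
    · rintro ⟨_, ⟨x, hx, rfl⟩, rfl⟩
      exact ⟨omRho Q g x, ⟨x, hx, rfl⟩, (hm' x).symm⟩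
  have h2 : ∀ (k : ℕ) (s : Cfsg.POmega F ⇑Q) (U : (quadPol Q).X m), (P ^ k) (s • U) = (a ^ k) s • (P ^ k) U := by
    intro k
    induction k with
    | zero => intro s U; rfl
    | succ k ih =>
      intro s U
      rw [pow_succ, pow_succ, Equiv.Perm.mul_apply, h1, ih]
      rfl
  have h3 : P ^ n = 1 := by
    ext1 W
    show (P ^ n) W = W
    refine eq_of_stab h hm W _ fun g hg hgW => ?_
    obtain ⟨g', rfl⟩ := exists_om hG hg
    have h4 := h2 n (omPi Q g') W
    rw [han] at h4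
    have h5 : omPi Q g' • W = W := ((om_model hG).smul_eq m g' W).trans (Subtype.ext hgW)
    rw [h5] at h4
    have h6 : omPi Q g' • (P ^ n) W = (P ^ n) W := h4.symm
    have h7 := (om_model hG).smul_eq m g' ((P ^ n) W)
    exact congrArg Subtype.val (h7.symm.trans h6)
  -- preserved or swapped
  have h4 : ∀ U W : (quadPol Q).X m, same (P U) (P W) ↔ same U W := fun U W => same_perm hM U W
  by_cases hs : same U0 (P U0)
  · have h5 := same_iff h U0 (P U0) (P U)
    have h6 := h4 U0 U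
    tauto
  · exfalso
    have h5 : ∀ k : ℕ, same U0 ((P ^ k) U0) ↔ Even k := by
      intro k
      induction k with
      | zero => exact ⟨fun _ => Even.zero, fun _ => same_self U0⟩
      | succ k ih =>
        have h6 : (P ^ (k + 1)) U0 = P ((P ^ k) U0) := by
          rw [pow_succ']
          rfl
        rw [h6, same_iff h U0 (P U0), h4, ih, Nat.even_add_one]
        tauto
    have h6 := h5 n
    rw [h3] at h6
    exact (Nat.not_even_iff_odd.2 hn) (h6.1 (same_self U0))

/-- **invariance** -/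
theorem famS_inv (h : Typ Q m 0) (hm : 2 ≤ m) (hG : Good Q) (U0 : (quadPol Q).X m) {M : (ι → F) ≃+ (ι → F)}
    (hM : SemiAct (quadPol Q) M) {a : MulAut (Cfsg.POmega F ⇑Q)} (ha : Induces (omRho Q) (omPi Q) M a) {n : ℕ}
    (hn : Odd n) (han : a ^ n = 1) (s : Cfsg.POmega F ⇑Q) :
    (letI := famS h hG U0; permC (Cfsg.POmega F ⇑Q) (Fam U0) (a s)) =
      (letI := famS h hG U0; permC (Cfsg.POmega F ⇑Q) (Fam U0) s) := by
  let _ := famS h hG U0
  obtain ⟨g, rfl⟩ := omPi_surj (Q := Q) s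
  obtain ⟨g', hg', hm'⟩ := ha g
  have key : ∀ U : (quadPol Q).X m, omO hG g' • hM.perm m U = hM.perm m (omO hG g • U) := by
    intro U
    apply Subtype.ext
    show (hM.sub U.1).map (omRho Q g' : (ι → F) →ₗ[F] (ι → F)) =
      hM.sub (U.1.map (omRho Q g : (ι → F) →ₗ[F] (ι → F)))
    ext v
    constructor
    · rintro ⟨_, ⟨x, hx, rfl⟩, rfl⟩
      exact ⟨omRho Q g x, ⟨x, hx, rfl⟩, (hm' x).symm⟩
    · rintro ⟨_, ⟨x, hx, rfl⟩, rfl⟩
      exact ⟨M x, ⟨x, hx, rfl⟩, hm' x⟩
  have hk := perm_keep h hm hG U0 hM ha hn han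
  show (Nat.card _ : ℂ) = (Nat.card _ : ℂ)
  congr 1
  symm
  refine Nat.card_congr
    { toFun := fun U => ⟨⟨hM.perm m U.1.1, (hk U.1.1).2 U.1.2⟩, ?_⟩
      invFun := fun U => ⟨⟨(hM.perm m).symm U.1.1, (hk _).1 (by
        rw [Equiv.apply_symm_apply]
        exact U.1.2)⟩, ?_⟩
      left_inv := fun U => Subtype.ext (Subtype.ext ((hM.perm m).symm_apply_apply U.1.1))
      right_inv := fun U => Subtype.ext (Subtype.ext ((hM.perm m).apply_symm_apply U.1.1)) }
  · have h1 : omPi Q g • U.1 = U.1 := U.2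
    have h2 := congrArg Subtype.val h1
    rw [famS_smul h hG U0 g U.1] at h2
    show a (omPi Q g) • _ = _
    rw [← hg']
    apply Subtype.ext
    rw [famS_smul h hG U0 g', key, h2]
  · rcases U with ⟨U, hU⟩
    have h1 : a (omPi Q g) • U = U := hU
    rw [← hg'] at h1
    have h2 := congrArg Subtype.val h1
    rw [famS_smul h hG U0 g' U] at h2
    show omPi Q g • _ = _
    apply Subtype.ext
    rw [famS_smul h hG U0 g]
    apply (hM.perm m).injective
    rw [← key, Equiv.apply_symm_apply]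
    exact h2

/-- **the row** when `p` divides the number of maximal totally singular subspaces -/
theorem rowZ_fam {p : ℕ} [hp : Fact p.Prime] (hp2 : p ≠ 2) (h : Typ Q m 0) (hm : 2 ≤ m) (hG : Good Q)
    (aut : ∀ a : MulAut (Cfsg.POmega F ⇑Q), (∃ k, orderOf a = p ^ k) → ∃ M : (ι → F) ≃+ (ι → F),
      SemiAct (quadPol Q) M ∧ Induces (omRho Q) (omPi Q) M a)
    (hd : p ∣ Nat.card ((quadPol Q).X m)) : RowZ p (Cfsg.POmega F ⇑Q) := by
  have _ : Finite ((ι → F) ≃ₗ[F] (ι → F)) := finite_lin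
  have hpos := h.card_X_pos (le_refl m)
  obtain ⟨U0⟩ : Nonempty ((quadPol Q).X m) := (Nat.card_pos_iff.1 hpos).1
  have _ := Fintype.ofFinite (Cfsg.POmega F ⇑Q)
  let _ := famS h hG U0
  have _ := famS_pretransitive h hG U0
  have _ : Nonempty (Fam U0) := ⟨⟨U0, same_self U0⟩⟩
  have hd' : p ∣ Nat.card (Fam U0) := by
    rw [← card_fam h hG U0] at hd
    exact ((Nat.coprime_primes hp.out Nat.prime_two).2 hp2).dvd_of_dvd_mul_left hd
  obtain ⟨P⟩ : Nonempty (Sylow p (Cfsg.POmega F ⇑Q)) := inferInstance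
  refine Cfsg.Agent.H145.BR.rowZ_of_cnt P (Fam U0) (fun a ha g => ?_) (fun χ hχ g => famS_int h hG U0 χ hχ g) ?_
  · obtain ⟨M, hM, hMa⟩ := aut a ha
    obtain ⟨k, hk⟩ := ha
    exact famS_inv h hm hG U0 hM hMa (n := orderOf a) (by
      rw [hk]
      exact (hp.out.odd_of_ne_two hp2).pow) (pow_orderOf_eq_one a) g
  · rw [Cfsg.Agent.H31.BR.cnt_eq_zero P hd']
    intro h1
    have h2 := (Nat.modEq_iff_dvd' (Nat.zero_le 1)).1 h1
    exact hp.out.one_lt.ne' (Nat.dvd_one.1 h2)

end Om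

end Cfsg.Agent.H636.BR
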