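import Cfsg.Agent.H145.BR.CountDefs
import Cfsg.Agent.CharDeep.PowerDegrees
import Cfsg.Agent.Characters.GaloisIrr
import Cfsg.Agent.Characters.Galois
import Cfsg.Agent.PermutationGroups.MultFree
import Cfsg.Agent.S0717
import Cfsg.Agent.S0157

/-!
# S4891: rationality of the constituents of a permutation character on one half of a set (helper636)

* `res_int` : `H → I` with the same orbits on `Y × Y`: the constituents of `permC H Y` are the restrictions of those of
  `permC I Y`, hence integer valued if those are;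
* `half_int` : `I` acts on `X` with all orbitals self-paired and integer valued constituents; `c` is a subset of `X` such that
  every `g` maps `c` to `c` or to its complement; then the constituents of the stabilizer of `c` on `c` are integer valued;
* `fam_int` : both combined.
-/

set_option autoImplicit false

open Cfsg Cfsg.Agent.Characters Cfsg.Agent.Characters.Core Cfsg.Agent.H145.BR

namespace Cfsg.Agent.H636.BR

universe u v w

/-- the constituents of a restricted character lie over constituents -/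
theorem exists_over_res {I : Type u} {H : Type w} [Group I] [Group H] [Fintype I] [Fintype H] (f : H →* I) {π : I → ℂ}
    (hπ : IsCharacter I π) {θ : H → ℂ} (h : classInner (π ∘ f) θ ≠ 0) :
    ∃ χ : I → ℂ, IsIrrCharacter I χ ∧ classInner π χ ≠ 0 ∧ classInner (χ ∘ f) θ ≠ 0 := by
  classical
  have := finite_irr (G := I)
  have := Fintype.ofFinite (IrrCharacter I)
  obtain ⟨m, rfl⟩ := exists_nat_comb hπ
  have h2 : (∑ ψ : IrrCharacter I, m ψ • (ψ : I → ℂ)) ∘ f = ∑ ψ : IrrCharacter I, (m ψ : ℂ) • ((ψ : I → ℂ) ∘ f) := by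
    funext x
    simp only [Function.comp_apply, Finset.sum_apply, Pi.smul_apply, nsmul_eq_mul, smul_eq_mul]
    rfl
  rw [h2, classInner_sum_left] at h
  obtain ⟨ψ, -, hψ⟩ := Finset.exists_ne_zero_of_sum_ne_zero h
  rw [classInner_smul_left] at hψ
  refine ⟨ψ, ψ.2, ?_, right_ne_zero_of_mul hψ⟩
  rw [classInner_sum_nsmul_irr]
  exact left_ne_zero_of_mul hψ

/-- if the norm of `π` does not grow by restriction, its constituents restrict irreducibly -/
theorem isIrr_res {I : Type u} {H : Type w} [Group I] [Group H] [Fintype I] [Fintype H] (f : H →* I) {π : I → ℂ}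
    (hπ : IsCharacter I π) (hr : classInner (π ∘ f) (π ∘ f) = classInner π π) {χ : I → ℂ} (hχ : IsIrrCharacter I χ)
    (h : classInner π χ ≠ 0) : IsIrrCharacter H (χ ∘ f) := by
  classical
  have := finite_irr (G := I)
  have := Fintype.ofFinite (IrrCharacter I)
  obtain ⟨m, rfl⟩ := exists_nat_comb hπ
  have hc : ∀ ψ : IrrCharacter I, IsCharacter H ((ψ : I → ℂ) ∘ f) := fun ψ => isCharacter_comp f (isIrr_isCharacter ψ.2)
  have h1 : ∀ ψ ψ' : IrrCharacter I, ∃ k : ℕ, classInner ((ψ : I → ℂ) ∘ f) ((ψ' : I → ℂ) ∘ f) = k := fun ψ ψ' =>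
    classInner_isNat (hc ψ) (hc ψ')
  choose n hn using h1
  have h2 : (∑ ψ : IrrCharacter I, m ψ • (ψ : I → ℂ)) ∘ f = ∑ ψ : IrrCharacter I, (m ψ : ℂ) • ((ψ : I → ℂ) ∘ f) := by
    funext x
    simp only [Function.comp_apply, Finset.sum_apply, Pi.smul_apply, nsmul_eq_mul, smul_eq_mul]
    rfl
  have h3 : ∑ ψ : IrrCharacter I, ∑ ψ' : IrrCharacter I, m ψ * (m ψ' * n ψ ψ') = ∑ ψ : IrrCharacter I, m ψ ^ 2 := by
    have h4 : ((∑ ψ : IrrCharacter I, ∑ ψ' : IrrCharacter I, m ψ * (m ψ' * n ψ ψ') : ℕ) : ℂ) =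
        ((∑ ψ : IrrCharacter I, m ψ ^ 2 : ℕ) : ℂ) := by
      have h5 := classInner_sum_smul_sum_smul (fun ψ : IrrCharacter I => (m ψ : ℂ)) (fun ψ => (m ψ : ℂ))
      simp only [Nat.cast_smul_eq_nsmul, map_natCast, ← pow_two] at h5
      push_cast
      rw [← h5, ← hr, h2, classInner_sum_left]
      refine Finset.sum_congr rfl fun ψ _ => ?_
      rw [classInner_smul_left, classInner_sum_right, Finset.mul_sum]
      refine Finset.sum_congr rfl fun ψ' _ => ?_
      rw [classInner_smul_right, map_natCast, hn]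
    exact_mod_cast h4
  have hpos : ∀ ψ : IrrCharacter I, 1 ≤ n ψ ψ := by
    intro ψ
    rw [Nat.one_le_iff_ne_zero]
    intro h0
    have h4 := hn ψ ψ
    rw [h0, Nat.cast_zero] at h4
    have h5 := classInner_self_eq_zero h4
    have h6 := congrFun h5 1
    exact isIrr_apply_one_ne_zero ψ.2 (by simpa using h6)
  have h4 : ∀ ψ : IrrCharacter I, m ψ ^ 2 ≤ ∑ ψ' : IrrCharacter I, m ψ * (m ψ' * n ψ ψ') := by
    intro ψ
    calc m ψ ^ 2 ≤ m ψ * (m ψ * n ψ ψ) := by nlinarith [hpos ψ, Nat.zero_le (m ψ), Nat.zero_le (m ψ * m ψ)]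
      _ ≤ _ := Finset.single_le_sum (f := fun ψ' : IrrCharacter I => m ψ * (m ψ' * n ψ ψ')) (fun i _ => Nat.zero_le _)
        (Finset.mem_univ ψ)
  have h5 : ∀ ψ : IrrCharacter I, m ψ ^ 2 = ∑ ψ' : IrrCharacter I, m ψ * (m ψ' * n ψ ψ') := by
    intro ψ
    exact (Finset.sum_eq_sum_iff_of_le (fun i _ => h4 i)).1 h3.symm ψ (Finset.mem_univ ψ)
  have h6 := h5 ⟨χ, hχ⟩
  have h7 : m ⟨χ, hχ⟩ ≠ 0 := by
    have h8 := classInner_sum_nsmul_irr m ⟨χ, hχ⟩
    rw [h8] at h
    exact_mod_cast h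
  have h8 : m ⟨χ, hχ⟩ * (m ⟨χ, hχ⟩ * n ⟨χ, hχ⟩ ⟨χ, hχ⟩) ≤ m ⟨χ, hχ⟩ ^ 2 := by
    rw [h6]
    exact Finset.single_le_sum (f := fun ψ' : IrrCharacter I => m ⟨χ, hχ⟩ * (m ψ' * n ⟨χ, hχ⟩ ψ'))
      (fun i _ => Nat.zero_le _) (Finset.mem_univ (⟨χ, hχ⟩ : IrrCharacter I))
  have h9 : n ⟨χ, hχ⟩ ⟨χ, hχ⟩ = 1 := by
    apply le_antisymm _ (hpos _)
    have h10 : 0 < m ⟨χ, hχ⟩ ^ 2 := by positivity
    by_contra hcon
    push Not at hcon
    nlinarith
  apply isIrr_of_classInner_self (hc ⟨χ, hχ⟩)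
  rw [hn, h9, Nat.cast_one]

/-- the permutation character is a character -/
theorem isCharacter_permC (G : Type u) [Group G] (X : Type v) [Finite X] [MulAction G X] : IsCharacter G (permC G X) :=
  S0157.isCharacter_fixedBy X

/-- equal orbits on pairs: equal norms -/
theorem norm_eq {I : Type u} {H : Type w} [Group I] [Group H] [Fintype I] [Fintype H] (f : H →* I) {Y : Type v} [Finite Y]
    [MulAction I Y] [MulAction H Y] (hf : ∀ (h : H) (y : Y), h • y = f h • y)
    (horb : ∀ x y x' y' : Y, (∃ g : I, g • x = x' ∧ g • y = y') → ∃ h : H, h • x = x' ∧ h • y = y') :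
    classInner (permC H Y) (permC H Y) = classInner (permC I Y) (permC I Y) := by
  have := Fintype.ofFinite Y
  have h1 := PermutationGroups.MultFree.classInner_self_eq_card_orbits (G := H) (Ω := Y)
  have h2 := PermutationGroups.MultFree.classInner_self_eq_card_orbits (G := I) (Ω := Y)
  refine h1.trans (Eq.trans ?_ h2.symm)
  congr 1
  refine Nat.card_congr (Quotient.congrRight fun a b => ?_)
  show a ∈ MulAction.orbit H b ↔ a ∈ MulAction.orbit I b
  constructor
  · rintro ⟨h, e⟩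
    refine ⟨f h, ?_⟩
    rw [← e]
    exact Prod.ext (hf h b.1).symm (hf h b.2).symm
  · rintro ⟨g, e⟩
    obtain ⟨h, h1, h2⟩ := horb b.1 b.2 a.1 a.2 ⟨g, congrArg Prod.fst e, congrArg Prod.snd e⟩
    exact ⟨h, Prod.ext h1 h2⟩

/-- **restriction** -/
theorem res_int {I : Type u} {H : Type w} [Group I] [Group H] [Fintype I] [Fintype H] (f : H →* I) {Y : Type v} [Finite Y]
    [MulAction I Y] [MulAction H Y] (hf : ∀ (h : H) (y : Y), h • y = f h • y)
    (horb : ∀ x y x' y' : Y, (∃ g : I, g • x = x' ∧ g • y = y') → ∃ h : H, h • x = x' ∧ h • y = y')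
    (hint : ∀ χ : I → ℂ, IsIrrCharacter I χ → classInner (permC I Y) χ ≠ 0 → ∀ g, ∃ k : ℤ, χ g = k)
    {θ : H → ℂ} (hθ : IsIrrCharacter H θ) (h0 : classInner (permC H Y) θ ≠ 0) (g : H) : ∃ k : ℤ, θ g = k := by
  have hcomp : permC H Y = permC I Y ∘ f := by
    funext h
    show (Nat.card _ : ℂ) = (Nat.card _ : ℂ)
    congr 1
    exact Nat.card_congr (Equiv.subtypeEquivRight fun y => by
      rw [MulAction.mem_fixedBy, MulAction.mem_fixedBy, hf])
  have hr := norm_eq f hf horb
  rw [hcomp] at hr h0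
  obtain ⟨χ, hχ, h1, h2⟩ := exists_over_res f (isCharacter_permC I Y) h0
  have h3 := isIrr_res f (isCharacter_permC I Y) hr hχ h1
  have h4 : χ ∘ f = θ := by
    by_contra hne
    exact h2 (classInner_irr_ne h3 hθ hne)
  obtain ⟨k, hk⟩ := hint χ hχ h1 (f g)
  exact ⟨k, by rw [← h4]; exact hk⟩

section Half

variable {I : Type u} [Group I] {X : Type v} [MulAction I X]

/-- every group element maps the subset `c` to itself or to its complement, and some element swaps -/
structure Halves (I : Type u) [Group I] {X : Type v} [MulAction I X] (c : X → Prop) : Prop where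
  alt : ∀ g : I, (∀ x, c (g • x) ↔ c x) ∨ (∀ x, c (g • x) ↔ ¬ c x)
  swap : ∃ s : I, ∀ x, c (s • x) ↔ ¬ c x
  ne : Nonempty X

/-- the stabilizer of the half `c` -/
def keep (I : Type u) [Group I] {X : Type v} [MulAction I X] (c : X → Prop) : Subgroup I where
  carrier := {g | ∀ x, c (g • x) ↔ c x}
  mul_mem' := by
    intro a b ha hb x
    rw [mul_smul, ha, hb]
  one_mem' := fun x => by rw [one_smul]
  inv_mem' := by
    intro a ha x
    have := ha (a⁻¹ • x)
    rw [smul_inv_smul] at this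
    exact this.symm

theorem mem_keep {c : X → Prop} {g : I} : g ∈ keep I c ↔ ∀ x, c (g • x) ↔ c x := Iff.rfl

/-- the action of the stabilizer on the half -/
@[reducible] def keepAct (c : X → Prop) : MulAction (keep I c) {x : X // c x} where
  smul g x := ⟨(g : I) • x.1, (g.2 x.1).2 x.2⟩
  one_smul x := Subtype.ext (one_smul I x.1)
  mul_smul g h x := Subtype.ext (mul_smul (g : I) (h : I) x.1)

theorem Halves.notMem {c : X → Prop} (h : Halves I c) {g : I} (hg : g ∉ keep I c) (x : X) : c (g • x) ↔ ¬ c x := by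
  rcases h.alt g with h1 | h1
  · exact absurd h1 hg
  · exact h1 x

theorem Halves.index {c : X → Prop} (h : Halves I c) : (keep I c).index = 2 := by
  rw [Subgroup.index_eq_two_iff]
  obtain ⟨s, hs⟩ := h.swap
  obtain ⟨x⟩ := h.ne
  refine ⟨s, fun g => ?_⟩
  by_cases hg : g ∈ keep I c
  · right
    refine ⟨hg, fun h1 => ?_⟩
    have h2 := h1 x
    rw [mul_smul, hg, hs] at h2
    tauto
  · left
    refine ⟨fun x => ?_, hg⟩
    rw [mul_smul, h.notMem hg, hs]
    tauto

/-- the number of the fixed points in `c` -/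
noncomputable def fixc (c : X → Prop) (g : I) : ℕ := Nat.card {x : X // c x ∧ g • x = x}

theorem fixc_keep (c : X → Prop) (g : keep I c) :
    (letI := keepAct (I := I) c; permC (keep I c) {x : X // c x} g) = (fixc c (g : I) : ℂ) := by
  let _ := keepAct (I := I) c
  show (Nat.card _ : ℂ) = (Nat.card _ : ℂ)
  congr 1
  refine Nat.card_congr
    { toFun := fun y => ⟨y.1.1, y.1.2, congrArg Subtype.val y.2⟩
      invFun := fun y => ⟨⟨y.1, y.2.1⟩, Subtype.ext y.2.2⟩
      left_inv := fun y => rfl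
      right_inv := fun y => rfl }

theorem Halves.fixc_notMem {c : X → Prop} (h : Halves I c) {g : I} (hg : g ∉ keep I c) : fixc c g = 0 := by
  have : IsEmpty {x : X // c x ∧ g • x = x} := ⟨fun y => by
    have := h.notMem hg y.1
    rw [y.2.2] at this
    tauto⟩
  exact Nat.card_of_isEmpty

theorem fix_eq [Finite X] (c : X → Prop) (g : I) :
    permC I X g = (fixc c g : ℂ) + (fixc (fun x => ¬ c x) g : ℂ) := by
  classical
  rw [← Nat.cast_add, fixc, fixc, ← Nat.card_sum]
  show (Nat.card _ : ℂ) = (Nat.card _ : ℂ)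
  congr 1
  refine Nat.card_congr ?_
  refine
    { toFun := fun y => if h : c y.1 then Sum.inl ⟨y.1, h, y.2⟩ else Sum.inr ⟨y.1, h, y.2⟩
      invFun := fun y => y.elim (fun z => ⟨z.1, z.2.2⟩) (fun z => ⟨z.1, z.2.2⟩)
      left_inv := fun y => ?_
      right_inv := fun y => ?_ }
  · by_cases h : c y.1
    · simp only [dif_pos h, Sum.elim_inl]
    · simp only [dif_neg h, Sum.elim_inr]
  · rcases y with y | y
    · exact dif_pos y.2.1
    · exact dif_neg y.2.1

theorem fixc_conj {c : X → Prop} {s : I} (hs : ∀ x, c (s • x) ↔ ¬ c x) (g : I) :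
    fixc (fun x => ¬ c x) g = fixc c (s⁻¹ * g * s) := by
  refine Nat.card_congr
    { toFun := fun y => ⟨s⁻¹ • y.1, ?_, ?_⟩
      invFun := fun y => ⟨s • y.1, ?_, ?_⟩
      left_inv := fun y => Subtype.ext (smul_inv_smul s y.1)
      right_inv := fun y => Subtype.ext (inv_smul_smul s y.1) }
  · have h1 := hs (s⁻¹ • y.1)
    rw [smul_inv_smul] at h1
    have h2 := y.2.1
    tauto
  · rw [mul_smul, smul_inv_smul, mul_smul, y.2.2]
  · exact fun h => (hs y.1).1 h y.2.1
  · have h1 := y.2.2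
    rw [mul_smul, mul_smul, inv_smul_eq_iff] at h1
    exact h1

/-- **multiplicities in the two halves** -/
theorem Halves.inner [Fintype I] [Finite X] {c : X → Prop} [Fintype (keep I c)] (h : Halves I c) {χ : I → ℂ}
    (hχ : IsClassFunction I χ) :
    classInner (permC I X) χ = (letI := keepAct (I := I) c; classInner (permC (keep I c) {x : X // c x})
      (χ ∘ (keep I c).subtype)) := by
  classical
  let _ := keepAct (I := I) c
  obtain ⟨s, hs⟩ := h.swap
  have h1 : ∑ g : I, permC I X g * (starRingEnd ℂ) (χ g) = 2 * ∑ g : I, (fixc c g : ℂ) * (starRingEnd ℂ) (χ g) := by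
    have h2 : ∑ g : I, (fixc (fun x => ¬ c x) g : ℂ) * (starRingEnd ℂ) (χ g) =
        ∑ g : I, (fixc c g : ℂ) * (starRingEnd ℂ) (χ g) := by
      rw [← Equiv.sum_comp (MulAut.conj s).toEquiv]
      refine Finset.sum_congr rfl fun g _ => ?_
      have h3 : (MulAut.conj s).toEquiv g = s * g * s⁻¹ := rfl
      rw [h3, fixc_conj hs, hχ g s]
      congr 3
      group
    rw [two_mul]
    nth_rw 1 [← h2]
    rw [← Finset.sum_add_distrib]
    refine Finset.sum_congr rfl fun g _ => ?_
    rw [fix_eq c g]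
    ring
  have h2 : ∑ g : I, (fixc c g : ℂ) * (starRingEnd ℂ) (χ g) =
      ∑ g : keep I c, (fixc c (g : I) : ℂ) * (starRingEnd ℂ) (χ g) := by
    have h3 : ∑ g : I, (fixc c g : ℂ) * (starRingEnd ℂ) (χ g) =
        ∑ g ∈ Finset.univ.filter (fun g => g ∈ keep I c), (fixc c g : ℂ) * (starRingEnd ℂ) (χ g) := by
      symm
      refine Finset.sum_filter_of_ne fun g _ hg => ?_
      by_contra hcon
      rw [h.fixc_notMem hcon, Nat.cast_zero, zero_mul] at hg
      exact hg rfl
    rw [h3]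
    exact Finset.sum_subtype _ (fun g => by simp) _
  have h3 : Nat.card I = 2 * Nat.card (keep I c) := by
    rw [← h.index, mul_comm, Subgroup.card_mul_index]
  rw [classInner_def, classInner_def, h1, h2, h3]
  have h4 : (Nat.card (keep I c) : ℂ) ≠ 0 := by exact_mod_cast Nat.card_pos.ne'
  push_cast
  have h5 : ∀ g : keep I c, permC (keep I c) {x : X // c x} g = (fixc c (g : I) : ℂ) := fixc_keep c
  simp only [h5]
  field_simp
  rfl

end Half

/-- two characters with a common constituent; with two common constituents -/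
theorem common {K : Type u} [Group K] [Fintype K] {α β : K → ℂ} (hα : IsCharacter K α) (hβ : IsCharacter K β) :
    ∃ n : ℕ, classInner α β = n ∧
      (∀ θ : K → ℂ, IsIrrCharacter K θ → classInner α θ ≠ 0 → classInner β θ ≠ 0 → 1 ≤ n) ∧
      (∀ θ θ' : K → ℂ, IsIrrCharacter K θ → IsIrrCharacter K θ' → θ ≠ θ' → classInner α θ ≠ 0 → classInner β θ ≠ 0 →
        classInner α θ' ≠ 0 → classInner β θ' ≠ 0 → 2 ≤ n) := by
  classical
  have := finite_irr (G := K)
  have := Fintype.ofFinite (IrrCharacter K)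
  obtain ⟨a, rfl⟩ := exists_nat_comb hα
  obtain ⟨b, rfl⟩ := exists_nat_comb hβ
  have h1 := classInner_sum_smul_sum_smul (fun ψ : IrrCharacter K => (a ψ : ℂ)) (fun ψ => (b ψ : ℂ))
  simp only [Nat.cast_smul_eq_nsmul, map_natCast] at h1
  have key : ∀ θ : IrrCharacter K, classInner (∑ ψ : IrrCharacter K, a ψ • (ψ : K → ℂ)) (θ : K → ℂ) ≠ 0 →
      classInner (∑ ψ : IrrCharacter K, b ψ • (ψ : K → ℂ)) (θ : K → ℂ) ≠ 0 → 1 ≤ a θ * b θ := by
    intro θ h2 h3
    rw [classInner_sum_nsmul_irr] at h2 h3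
    have h4 : a θ ≠ 0 := by exact_mod_cast h2
    have h5 : b θ ≠ 0 := by exact_mod_cast h3
    exact Nat.one_le_iff_ne_zero.2 (Nat.mul_ne_zero h4 h5)
  refine ⟨∑ ψ : IrrCharacter K, a ψ * b ψ, ?_, ?_, ?_⟩
  · rw [h1]
    push_cast
    rfl
  · intro θ hθ h2 h3
    exact (key ⟨θ, hθ⟩ h2 h3).trans (Finset.single_le_sum (f := fun ψ : IrrCharacter K => a ψ * b ψ)
      (fun i _ => Nat.zero_le _) (Finset.mem_univ _))
  · intro θ θ' hθ hθ' hne h2 h3 h4 h5
    have h6 := key ⟨θ, hθ⟩ h2 h3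
    have h7 := key ⟨θ', hθ'⟩ h4 h5
    have h8 : (⟨θ, hθ⟩ : IrrCharacter K) ≠ ⟨θ', hθ'⟩ := fun e => hne (congrArg Subtype.val e)
    have h9 : ∑ ψ ∈ ({⟨θ, hθ⟩, ⟨θ', hθ'⟩} : Finset (IrrCharacter K)), a ψ * b ψ ≤ ∑ ψ : IrrCharacter K, a ψ * b ψ :=
      Finset.sum_le_sum_of_subset (Finset.subset_univ _)
    rw [Finset.sum_pair h8] at h9
    omega

/-- **one half** : integer valued constituents -/
theorem half_int {I : Type u} [Group I] {X : Type v} [MulAction I X] [Fintype I] [Finite X] {c : X → Prop}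
    [Fintype (keep I c)] (h : Halves I c)
    (hmf : ∀ χ : I → ℂ, IsIrrCharacter I χ → classInner (permC I X) χ ≠ 0 → classInner (permC I X) χ = 1)
    (hint : ∀ χ : I → ℂ, IsIrrCharacter I χ → classInner (permC I X) χ ≠ 0 → ∀ g, ∃ k : ℤ, χ g = k)
    {θ : keep I c → ℂ} (hθ : IsIrrCharacter (keep I c) θ)
    (h0 : (letI := keepAct (I := I) c; classInner (permC (keep I c) {x : X // c x}) θ) ≠ 0) (g : keep I c) :
    ∃ k : ℤ, θ g = k := by
  let _ := keepAct (I := I) c
  apply Galois.exists_int_of_forall_ringEquiv (GaloisBasic.isIntegral_apply (isIrr_isCharacter hθ) g)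
  intro σ
  by_contra hne
  obtain ⟨χ, hχ, h1⟩ := CharDeep.PowerDegrees.exists_irr_over (keep I c) hθ
  have hc1 : IsCharacter (keep I c) (permC (keep I c) {x : X // c x}) := isCharacter_permC _ _
  have hc2 : IsCharacter (keep I c) (χ ∘ (keep I c).subtype) := isCharacter_comp _ (isIrr_isCharacter hχ)
  obtain ⟨n, hn, hn1, hn2⟩ := common hc1 hc2
  have hin := h.inner (isIrr_isClassFunction hχ)
  have h2 := hn1 θ hθ h0 h1
  have h3 : classInner (permC I X) χ ≠ 0 := by
    rw [hin, hn]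
    exact_mod_cast (by omega : n ≠ 0)
  have h4 := hmf χ hχ h3
  rw [hin, hn] at h4
  have h5 : n = 1 := by exact_mod_cast h4
  have hσ : IsIrrCharacter (keep I c) (fun g => σ (θ g)) := GaloisIrr.isIrr_map σ hθ
  have hne' : θ ≠ fun g => σ (θ g) := fun e => hne (congrFun e g).symm
  have h6 : classInner (permC (keep I c) {x : X // c x}) (fun g => σ (θ g)) ≠ 0 := by
    have h7 := GaloisIrr.classInner_map σ (χ := permC (keep I c) {x : X // c x}) (isIrr_isCharacter hθ)
    have h8 : (fun g => σ (permC (keep I c) {x : X // c x} g)) = permC (keep I c) {x : X // c x} := by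
      funext g
      exact map_natCast σ _
    rw [h8] at h7
    rw [h7]
    exact (map_ne_zero_iff σ σ.injective).2 h0
  have h9 : classInner (χ ∘ (keep I c).subtype) (fun g => σ (θ g)) ≠ 0 := by
    have h7 := GaloisIrr.classInner_map σ (χ := χ ∘ (keep I c).subtype) (isIrr_isCharacter hθ)
    have h8 : (fun g => σ ((χ ∘ (keep I c).subtype) g)) = χ ∘ (keep I c).subtype := by
      funext g
      obtain ⟨k, hk⟩ := hint χ hχ h3 (g : I)
      show σ (χ (g : I)) = χ (g : I)
      rw [hk]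
      exact map_intCast σ k
    rw [h8] at h7
    rw [h7]
    exact (map_ne_zero_iff σ σ.injective).2 h1
  have := hn2 θ _ hθ hσ hne' h0 h1 h6 h9
  omega

/-- **one half, restricted to a subgroup with the same orbits on pairs** -/
theorem fam_int {I : Type u} [Group I] {X : Type v} [MulAction I X] [Fintype I] [Finite X] {c : X → Prop}
    (h : Halves I c) (hsp : ∀ a b : X, ∃ g : I, g • a = b ∧ g • b = a)
    (hint : ∀ χ : I → ℂ, IsIrrCharacter I χ → classInner (permC I X) χ ≠ 0 → ∀ g, ∃ k : ℤ, χ g = k)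
    {H : Type w} [Group H] [Fintype H] (f : H →* I) (hf : ∀ h, f h ∈ keep I c) [MulAction H {x : X // c x}]
    (hf' : ∀ (h : H) (x : {x : X // c x}), (h • x).1 = f h • x.1)
    (horb : ∀ x y x' y' : {x : X // c x}, (∃ g : I, g • x.1 = x'.1 ∧ g • y.1 = y'.1) → ∃ h : H, h • x = x' ∧ h • y = y')
    {θ : H → ℂ} (hθ : IsIrrCharacter H θ) (h0 : classInner (permC H {x : X // c x}) θ ≠ 0) (g : H) :
    ∃ k : ℤ, θ g = k := by
  classical
  let _ := keepAct (I := I) c
  have := Fintype.ofFinite X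
  have : MulAction.IsPretransitive I X := ⟨fun a b => by
    obtain ⟨g, hg, -⟩ := hsp a b
    exact ⟨g, hg⟩⟩
  have hmf : ∀ χ : I → ℂ, IsIrrCharacter I χ → classInner (permC I X) χ ≠ 0 → classInner (permC I X) χ = 1 :=
    fun χ hχ h1 => ((S0717.result (G := I) (Ω := X)).1 hsp χ hχ h1).1
  have key : ∀ χ : keep I c → ℂ, IsIrrCharacter (keep I c) χ → classInner (permC (keep I c) {x : X // c x}) χ ≠ 0 →
      ∀ g, ∃ k : ℤ, χ g = k := fun χ hχ h1 => half_int h hmf hint hχ h1
  refine res_int (I := keep I c) (f.codRestrict (keep I c) hf) (fun h x => Subtype.ext (hf' h x)) ?_ key hθ h0 g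
  rintro x y x' y' ⟨g, h1, h2⟩
  exact horb x y x' y' ⟨g, congrArg Subtype.val h1, congrArg Subtype.val h2⟩

end Cfsg.Agent.H636.BR
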