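import Cfsg.Agent.H636.BR.Half
import Cfsg.Agent.H623.BR.Polar
import Cfsg.Agent.H410.BR.OmReg
import Cfsg.Agent.H410.BR.OmForms
import Cfsg.Agent.ClassicalGeometry.TwoFamilies

/-!
# S4891: the two families of maximal totally singular subspaces, plus type (helper636)

`Q` of plus type (`Typ Q m 0`): `same U W` : `dim (U ⊓ W) = m` mod 2.
* `parity`, `same_iff` : an equivalence relation with two classes;
* `factor'` : every isometry is a product of an element of `E Q`, an isometry stabilizing two given totally singular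
  subspaces and possibly one fixed reflection;
* `halves` : the isometry group permutes the two families, reflections swap them;
* `pair_E` : `E Q` is transitive on the pairs of members of one family with given dimension of the intersection.
-/

set_option autoImplicit false
set_option linter.unusedSectionVars false

namespace Cfsg.Agent.H636.BR

open Module QuadraticMap Cfsg Cfsg.Agent.H2.Pol Cfsg.Agent.H674.BR Cfsg.Agent.H410.BR Cfsg.Agent.H145.BR
open Cfsg.Agent.LieClassical Cfsg.Agent.LieClassical.OrthCore Cfsg.Agent.LieClassical.OrthForms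
  Cfsg.Agent.LieClassical.OrthTrans Cfsg.Agent.LieClassical.OrthFinite

section Factor

variable {F V : Type*} [Field F] [AddCommGroup V] [Module F V] [FiniteDimensional F V] {Q : QuadraticForm F V}

theorem comm_mem_E (hG : Good Q) {x y : V ≃ₗ[F] V} (hx : x ∈ O Q) (hy : y ∈ O Q) : x * y * x⁻¹ * y⁻¹ ∈ E Q := by
  rw [← hG.commutator_eq_E, ← commutatorElement_def]
  exact Subgroup.commutator_mem_commutator hx hy

/-- the group generated by `E Q` and the common stabilizer of `U` and `U'` -/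
def NN (Q : QuadraticForm F V) (U U' : Submodule F V) : Subgroup (V ≃ₗ[F] V) where
  carrier := {g | ∃ h ∈ E Q, ∃ k ∈ O Q, g = h * k ∧ U.map (k : V →ₗ[F] V) = U ∧ U'.map (k : V →ₗ[F] V) = U'}
  mul_mem' := by
    rintro _ _ ⟨h, hh, k, hk, rfl, e1, e2⟩ ⟨h', hh', k', hk', rfl, e1', e2'⟩
    refine ⟨h * (k * h' * k⁻¹), (E Q).mul_mem hh (conj_mem_E hk hh'), k * k', (O Q).mul_mem hk hk', by group, ?_, ?_⟩
    · rw [map_mul_eq, e1', e1]
    · rw [map_mul_eq, e2', e2]
  one_mem' := ⟨1, (E Q).one_mem, 1, (O Q).one_mem, by rw [mul_one], Submodule.map_id U, Submodule.map_id U'⟩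
  inv_mem' := by
    rintro _ ⟨h, hh, k, hk, rfl, e1, e2⟩
    refine ⟨k⁻¹ * h⁻¹ * k⁻¹⁻¹, conj_mem_E ((O Q).inv_mem hk) ((E Q).inv_mem hh), k⁻¹, (O Q).inv_mem hk, by group,
      ?_, ?_⟩
    · exact map_inv_eq e1
    · exact map_inv_eq e2

theorem NN_le_O {U U' : Submodule F V} : NN Q U U' ≤ O Q := by
  rintro _ ⟨h, hh, k, hk, rfl, -, -⟩
  exact (O Q).mul_mem (E_le_O hh) hk

theorem E_le_NN {U U' : Submodule F V} : E Q ≤ NN Q U U' := fun h hh =>
  ⟨h, hh, 1, (O Q).one_mem, (mul_one h).symm, Submodule.map_id U, Submodule.map_id U'⟩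

theorem NN_conj (hG : Good Q) {U U' : Submodule F V} {x n : V ≃ₗ[F] V} (hx : x ∈ O Q) (hn : n ∈ NN Q U U') :
    x * n * x⁻¹ ∈ NN Q U U' := by
  have h1 : x * n * x⁻¹ = (x * n * x⁻¹ * n⁻¹) * n := by group
  rw [h1]
  exact (NN Q U U').mul_mem (E_le_NN (comm_mem_E hG hx (NN_le_O hn))) hn

/-- **factorization** -/
theorem factor' (hG : Good Q) {U U' : Submodule F V} (hU : (quadPol Q).TI U) (hU' : (quadPol Q).TI U') :
    ∃ (v : V) (hv : Q v ≠ 0), ∀ g ∈ O Q, g ∈ NN Q U U' ∨ g * refl Q v hv ∈ NN Q U U' := by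
  obtain ⟨e, f, hef, hc, hc'⟩ := exists_compat hG.nondeg hG.exists_hyp hU hU'
  have hq : ∀ α : F, Q (e + α • f) = α := by
    intro α
    rw [Q_add, QuadraticMap.map_smul, polar_smul_right, hef.left, hef.right, hef.pair, smul_zero, smul_eq_mul, mul_one]
    ring
  have hb : Q (e + (1 : F) • f) ≠ 0 := by rw [hq]; exact one_ne_zero
  refine ⟨e + (1 : F) • f, hb, fun g hg => ?_⟩
  set ρ := refl Q _ hb with hρ
  have hρO : ρ ∈ O Q := refl_mem_O hb
  have hρρ : ρ * ρ = 1 := refl_mul_self hb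
  rw [O_eq_closure hG.nondeg] at hg
  induction hg using Subgroup.closure_induction with
  | mem x hx =>
    rcases hx with ⟨u, hu, rfl⟩ | hx
    · right
      have ha : Q (e + Q u • f) ≠ 0 := by rw [hq]; exact hu
      obtain ⟨c, d, t1, t2, t3⟩ := torus hef ha hb
      have hAE : refl Q u hu * refl Q _ ha ∈ E Q := hG.refl_mul_refl_mem ha hu (hq _)
      refine ⟨refl Q u hu * refl Q _ ha, hAE, refl Q _ ha * ρ, (O Q).mul_mem (refl_mem_O ha) hρO, ?_, ?_, ?_⟩
      · calc refl Q u hu * ρ = refl Q u hu * (refl Q _ ha * refl Q _ ha) * ρ := by rw [refl_mul_self ha, mul_one]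
          _ = _ := by simp only [mul_assoc]
      · exact map_of_cpt hef hU hc t1 t2 t3
      · exact map_of_cpt hef hU' hc' t1 t2 t3
    · exact Or.inl (E_le_NN (Subgroup.subset_closure hx))
  | one => exact Or.inl (NN Q U U').one_mem
  | mul x y hx0 hy0 hx hy =>
    rw [← O_eq_closure hG.nondeg] at hx0 hy0
    have hc1 : ∀ {n : V ≃ₗ[F] V}, n ∈ NN Q U U' → ρ⁻¹ * n * ρ ∈ NN Q U U' := fun {n} hn => by
      have := NN_conj hG ((O Q).inv_mem hρO) hn
      rwa [inv_inv] at this
    rcases hx with hx | hx <;> rcases hy with hy | hy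
    · exact Or.inl ((NN Q U U').mul_mem hx hy)
    · right
      rw [mul_assoc]
      exact (NN Q U U').mul_mem hx hy
    · right
      have h1 : x * y * ρ = (x * ρ) * (ρ⁻¹ * y * ρ) := by group
      rw [h1]
      exact (NN Q U U').mul_mem hx (hc1 hy)
    · left
      have h1 : x * y = (x * ρ) * (ρ⁻¹ * (y * ρ) * ρ) * (ρ * ρ)⁻¹ := by group
      rw [h1, hρρ, inv_one, mul_one]
      exact (NN Q U U').mul_mem hx (hc1 hy)
  | inv x hx0 hx =>
    rcases hx with hx | hx
    · exact Or.inl ((NN Q U U').inv_mem hx)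
    · right
      have h1 : x⁻¹ * ρ = (ρ * (x * ρ)⁻¹ * ρ⁻¹) * (ρ * ρ) := by group
      rw [h1, hρρ, mul_one]
      exact NN_conj hG hρO ((NN Q U U').inv_mem hx)

end Factor

section Same

variable {F V : Type*} [Field F] [AddCommGroup V] [Module F V] [FiniteDimensional F V] {Q : QuadraticForm F V}
  [Finite F] {m : ℕ}

/-- **parity** -/
theorem parity (h : Typ Q m 0) (U W Z : (quadPol Q).X m) :
    Even (finrank F ↥(U.1 ⊓ W.1) + finrank F ↥(W.1 ⊓ Z.1) + finrank F ↥(U.1 ⊓ Z.1) + m) := by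
  refine Cfsg.Agent.ClassicalGeometry.TwoFamilies.even_intersections (polarBilin Q) (⇑Q)
    (fun u w => by rw [QuadraticMap.map_add Q]; rfl) (nondegenerate_of_nondeg h.nondeg) ?_ m ?_ U.1 W.1 Z.1 U.2.2 W.2.2
    Z.2.2 U.2.1.1 W.2.1.1 Z.2.1.1
  · intro x y hxy
    show polar Q y x = 0
    rw [polar_comm]
    exact hxy
  · have := h.dim
    omega

/-- two maximal totally singular subspaces are in the same family -/
def same (U W : (quadPol Q).X m) : Prop := Even (finrank F ↥(U.1 ⊓ W.1) + m)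

theorem same_iff (h : Typ Q m 0) (U W Z : (quadPol Q).X m) : same U Z ↔ (same U W ↔ same W Z) := by
  have h1 := parity h U W Z
  unfold same
  simp only [Nat.even_iff] at h1 ⊢
  omega

theorem same_self (U : (quadPol Q).X m) : same U U := by
  unfold same
  rw [inf_idem, show finrank F ↥U.1 = m from U.2.2]
  exact ⟨m, rfl⟩

/-- the isometry group -/
theorem O_acts (Q : QuadraticForm F V) : Acts (quadPol Q) (O Q).subtype where
  sing g v hv := by
    have h1 : Q ((g : V ≃ₗ[F] V) v) = Q v := mem_O.1 g.2 v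
    show Q ((g : V ≃ₗ[F] V) v) = 0
    rw [h1]
    exact hv
  orth g x y h := by
    have h1 : polar Q ((g : V ≃ₗ[F] V) x) ((g : V ≃ₗ[F] V) y) = polar Q x y := polar_map g.2 x y
    show polar Q ((g : V ≃ₗ[F] V) x) ((g : V ≃ₗ[F] V) y) = 0
    rw [h1]
    exact h

noncomputable instance instO (j : ℕ) : MulAction (O Q) ((quadPol Q).X j) := (O_acts Q).mulAction j

theorem O_smul {j : ℕ} (g : O Q) (U : (quadPol Q).X j) :
    (g • U).1 = U.1.map ((g : V ≃ₗ[F] V) : V →ₗ[F] V) := rfl

theorem same_smul (g : O Q) (U W : (quadPol Q).X m) : same (g • U) (g • W) ↔ same U W := by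
  unfold same
  rw [O_smul, O_smul, ← Submodule.map_inf _ (g : V ≃ₗ[F] V).injective,
    LinearEquiv.finrank_map_eq (g : V ≃ₗ[F] V)]

/-- a reflection moves every maximal totally singular subspace to the other family -/
theorem not_same_refl (h : Typ Q m 0) {v : V} (hv : Q v ≠ 0) (U : (quadPol Q).X m) :
    ¬ same U ((⟨refl Q v hv, refl_mem_O hv⟩ : O Q) • U) := by
  -- `U` is its own orthogonal space
  have hperp : ∀ x : V, (∀ y ∈ U.1, polar Q y x = 0) → x ∈ U.1 := by
    intro x hx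
    have h1 := finrank_pp h.nondeg U.1
    have h2 : U.1 ≤ (quadPol Q).perp U.1 := fun a ha b hb => by
      show polar Q a b = 0
      exact U.2.1.2 a ha b hb
    have h3 : U.1 = (quadPol Q).perp U.1 := by
      apply Submodule.eq_of_le_of_finrank_eq h2
      rw [perp_eq_pp]
      have h4 : finrank F ↥U.1 = m := U.2.2
      have h5 := h.dim
      omega
    rw [h3]
    intro y hy
    show polar Q x y = 0
    rw [polar_comm]
    exact hx y hy
  let φ : U.1 →ₗ[F] F := (polarBilin Q v).domRestrict U.1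
  have hφ : φ ≠ 0 := by
    intro h0
    apply hv
    have h1 : v ∈ U.1 := hperp v fun y hy => by
      have h2 := LinearMap.congr_fun h0 ⟨y, hy⟩
      have h3 : polar Q v y = 0 := h2
      rw [polar_comm]
      exact h3
    exact U.2.1.1 v h1
  have h1 : U.1 ⊓ ((⟨refl Q v hv, refl_mem_O hv⟩ : O Q) • U).1 = (LinearMap.ker φ).map U.1.subtype := by
    ext x
    rw [Submodule.mem_inf, O_smul]
    constructor
    · rintro ⟨hx, y, hy, e⟩
      have e' : refl Q v hv y = x := e
      rw [refl_apply] at e'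
      have h2 : polar Q v y = 0 := by
        by_contra hne
        apply hv
        have h3 : ((Q v)⁻¹ * polar Q v y) • v ∈ U.1 := by
          have h4 : ((Q v)⁻¹ * polar Q v y) • v = y - x := by rw [← e']; abel
          rw [h4]
          exact U.1.sub_mem hy hx
        have h5 : v ∈ U.1 := (Submodule.smul_mem_iff _ (mul_ne_zero (inv_ne_zero hv) hne)).1 h3
        exact U.2.1.1 v h5
      rw [h2, mul_zero, zero_smul, sub_zero] at e'
      subst e'
      exact ⟨⟨y, hy⟩, h2, rfl⟩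
    · rintro ⟨⟨y, hy⟩, h2, rfl⟩
      have h3 : polar Q v y = 0 := h2
      refine ⟨hy, y, hy, ?_⟩
      show refl Q v hv y = y
      rw [refl_apply, h3, mul_zero, zero_smul, sub_zero]
  have h2 : finrank F ↥(U.1 ⊓ ((⟨refl Q v hv, refl_mem_O hv⟩ : O Q) • U).1) + 1 = m := by
    rw [h1, Submodule.finrank_map_subtype_eq]
    have h3 := Module.Dual.finrank_ker_add_one_of_ne_zero (f := φ) hφ
    rw [h3]
    exact U.2.2
  unfold same
  rw [Nat.even_iff]
  omega

/-- an isometry preserves or swaps the families -/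
theorem halves (h : Typ Q m 0) (hG : Good Q) (U0 : (quadPol Q).X m) : Halves (O Q) (same U0) where
  alt g := by
    by_cases hg : same U0 (g • U0)
    · left
      intro U
      rw [same_iff h U0 (g • U0), same_smul]
      tauto
    · right
      intro U
      rw [same_iff h U0 (g • U0), same_smul]
      tauto
  swap := by
    obtain ⟨x, y, hxy⟩ := hG.exists_hyp
    have hv : Q (x + y) ≠ 0 := by
      rw [Q_add, hxy.left, hxy.right, hxy.pair]
      simp
    refine ⟨⟨refl Q _ hv, refl_mem_O hv⟩, fun U => ?_⟩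
    have h1 := not_same_refl h hv U
    rw [same_iff h U0 U]
    tauto
  ne := ⟨U0⟩

theorem comm_mem_of_index_two {G : Type*} [Group G] {K : Subgroup G} (h : K.index = 2) (a b : G) :
    a * b * a⁻¹ * b⁻¹ ∈ K := by
  rw [Subgroup.mul_mem_iff_of_index_two h, Subgroup.mul_mem_iff_of_index_two h, Subgroup.mul_mem_iff_of_index_two h,
    Subgroup.inv_mem_iff, Subgroup.inv_mem_iff]
  by_cases ha : a ∈ K <;> by_cases hb : b ∈ K <;> simp [ha, hb]

/-- `E Q` preserves the families -/
theorem E_keep (h : Typ Q m 0) (hG : Good Q) (U0 : (quadPol Q).X m) {g : V ≃ₗ[F] V} (hg : g ∈ E Q) (hgO : g ∈ O Q) :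
    (⟨g, hgO⟩ : O Q) ∈ keep (O Q) (same U0) := by
  have hH := halves h hG U0
  have h1 : E Q ≤ (keep (O Q) (same U0)).map (O Q).subtype := by
    rw [← hG.commutator_eq_E, Subgroup.commutator_le]
    intro a ha b hb
    refine ⟨(⟨a, ha⟩ : O Q) * ⟨b, hb⟩ * (⟨a, ha⟩ : O Q)⁻¹ * (⟨b, hb⟩ : O Q)⁻¹, ?_, rfl⟩
    exact comm_mem_of_index_two hH.index _ _
  obtain ⟨k, hk, e⟩ := h1 hg
  have : k = ⟨g, hgO⟩ := Subtype.ext e
  rw [← this]
  exact hk

/-- an isometry stabilizing a member of `X m` preserves the families -/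
theorem keep_of_fix (h : Typ Q m 0) (hG : Good Q) (U0 : (quadPol Q).X m) {g : O Q} {U W : (quadPol Q).X m}
    (hUW : same U W) (e : g • U = W) : g ∈ keep (O Q) (same U0) := by
  have hH := halves h hG U0
  by_contra hg
  have h1 := hH.notMem hg U
  rw [e, same_iff h U0 U W] at h1
  tauto

/-- **`E Q` and pairs in one family** -/
theorem pair_E (h : Typ Q m 0) (hG : Good Q) {U U' W W' : (quadPol Q).X m} (hUW : same U W) (g : O Q) (e1 : g • U = W)
    (e2 : g • U' = W') : ∃ k ∈ E Q, U.1.map (k : V →ₗ[F] V) = W.1 ∧ U'.1.map (k : V →ₗ[F] V) = W'.1 := by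
  obtain ⟨v, hv, hf⟩ := factor' hG U.2.1 U'.2.1
  rcases hf g.1 g.2 with ⟨a, ha, k, hk, e, f1, f2⟩ | ⟨a, ha, k, hk, e, f1, f2⟩
  · refine ⟨a, ha, ?_, ?_⟩
    · rw [← e1, O_smul, e, map_mul_eq, f1]
    · rw [← e2, O_smul, e, map_mul_eq, f2]
  · exfalso
    have h1 : g ∈ keep (O Q) (same U) := keep_of_fix h hG U hUW e1
    have h2 : (⟨a, E_le_O ha⟩ : O Q) ∈ keep (O Q) (same U) := E_keep h hG U ha _
    have h3 : (⟨k, hk⟩ : O Q) ∈ keep (O Q) (same U) := keep_of_fix h hG U (same_self U) (W := U) (Subtype.ext f1)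
    have h4 : (⟨refl Q v hv, refl_mem_O hv⟩ : O Q) ∉ keep (O Q) (same U) := fun h5 =>
      not_same_refl h hv U ((h5 U).2 (same_self U))
    apply h4
    have h5 : (⟨refl Q v hv, refl_mem_O hv⟩ : O Q) = g⁻¹ * (⟨a, E_le_O ha⟩ * ⟨k, hk⟩) := by
      rw [eq_inv_mul_iff_mul_eq]
      exact Subtype.ext e
    rw [h5]
    exact Subgroup.mul_mem _ (Subgroup.inv_mem _ h1) (Subgroup.mul_mem _ h2 h3)

/-- Witt's theorem for the isometry group -/
theorem pair_O (h : Typ Q m 0) {k l : ℕ} (U W : (quadPol Q).X k) (U' W' : (quadPol Q).X l)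
    (h1 : finrank F ↥(U.1 ⊓ U'.1) = finrank F ↥(W.1 ⊓ W'.1))
    (h2 : finrank F ↥(U.1 ⊓ (quadPol Q).perp U'.1) = finrank F ↥(W.1 ⊓ (quadPol Q).perp W'.1)) :
    ∃ g : O Q, g • U = W ∧ g • U' = W' := by
  have e1 := dim_symm (Q := Q) U.2.1 U'.2.1
  have e2 := dim_symm (Q := Q) W.2.1 W'.2.1
  rw [show finrank F U.1 = k from U.2.2, show finrank F U'.1 = l from U'.2.2] at e1
  rw [show finrank F W.1 = k from W.2.2, show finrank F W'.1 = l from W'.2.2] at e2
  obtain ⟨g, hg, f1, f2⟩ := witt_pair_O h.nondeg U.2.1 U'.2.1 W.2.1 W'.2.1 (U.2.2.trans W.2.2.symm)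
    (U'.2.2.trans W'.2.2.symm) h1 (by omega)
  exact ⟨⟨g, hg⟩, Subtype.ext f1, Subtype.ext f2⟩

/-- all orbitals on `X m` are self-paired -/
theorem selfpaired (h : Typ Q m 0) (U W : (quadPol Q).X m) : ∃ g : O Q, g • U = W ∧ g • W = U := by
  have e1 := dim_symm (Q := Q) U.2.1 W.2.1
  rw [show finrank F U.1 = m from U.2.2, show finrank F W.1 = m from W.2.2] at e1
  exact pair_O h U W W U (by rw [inf_comm]) (by omega)

/-- **the constituents of the isometry group on `X k`** are integer valued -/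
theorem O_int (h : Typ Q m 0) [Fintype (O Q)] (k : ℕ) {χ : O Q → ℂ} (hχ : IsIrrCharacter (O Q) χ)
    (h0 : classInner (permC (O Q) ((quadPol Q).X k)) χ ≠ 0) (g : O Q) : ∃ n : ℤ, χ g = n := by
  obtain ⟨cc, hcc⟩ := h.reg
  have hA : Cfsg.Agent.H623.BR.Act (quadPol Q) (O Q) := by
    refine Cfsg.Agent.H623.BR.Act.of_linear fun g => ⟨g.1, fun x y => ?_, fun j U => rfl⟩
    show polar Q (g.1 x) (g.1 y) = 0 ↔ polar Q x y = 0
    rw [polar_map g.2]
  refine Cfsg.Agent.H623.BR.polar_permC (G := O Q) hcc hA (k := k) (fun j _ _ U U2 W W2 hty => ?_) hχ (Or.inl h0) g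
  exact pair_O h U W U2 W2 (congrArg Prod.fst hty) (congrArg Prod.snd hty)

end Same

end Cfsg.Agent.H636.BR
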