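import Cfsg.Agent.H636.BR.Fam
import Cfsg.Agent.H410.BR.OMinusRow
import Cfsg.Agent.H314.RatB.OPlus
import Cfsg.Agent.S0293

/-!
# S4891: the row of the orthogonal groups of plus type, `m ≥ 5` (helper636)

`d` the order of `q` modulo `p`: `d = 1` helper314; `d` even: one family of maximal totally singular subspaces
(`rowZ_fam`); `d` odd, `m ≠ 2 d - 1, 2 d - 2`: the polar theorem (helper623, helper31).
-/

set_option autoImplicit false

namespace Cfsg.Agent.H636.BR

open Module QuadraticMap Cfsg Cfsg.Agent.H2.Pol Cfsg.Agent.H674.BR Cfsg.Agent.H410.BR Cfsg.Agent.H145.BR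
open Cfsg.Agent.LieClassical Cfsg.Agent.LieClassical.OrthCore Cfsg.Agent.LieClassical.OrthForms
  Cfsg.Agent.LieClassical.OrthTrans Cfsg.Agent.LieClassical.OrthFinite

variable {p : ℕ} [hp : Fact p.Prime]

/-- the number of maximal totally singular subspaces -/
theorem card_max {F V : Type*} [Field F] [AddCommGroup V] [Module F V] [FiniteDimensional F V] {Q : QuadraticForm F V}
    [Finite F] {m : ℕ} (h : Typ Q m 0) : Nat.card ((quadPol Q).X m) = ∏ i ∈ Finset.range m, (Nat.card F ^ i + 1) := by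
  have h1 := h.card_X le_rfl
  have hq : 1 < Nat.card F := Finite.one_lt_card
  have h2 : ∏ i ∈ Finset.range m, (Nat.card F ^ (m - i) - 1) = ∏ i ∈ Finset.range m, (Nat.card F ^ (i + 1) - 1) := by
    rw [← Finset.prod_range_reflect (fun i => Nat.card F ^ (i + 1) - 1) m]
    refine Finset.prod_congr rfl fun i hi => ?_
    have h3 := Finset.mem_range.1 hi
    have h4 : m - 1 - i + 1 = m - i := by omega
    rw [h4]
  have h3 : ∏ i ∈ Finset.range m, (Nat.card F ^ (m - 1 - i + 0) + 1) = ∏ i ∈ Finset.range m, (Nat.card F ^ i + 1) := by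
    rw [← Finset.prod_range_reflect (fun i => Nat.card F ^ i + 1) m]
    rfl
  rw [Finset.prod_mul_distrib, h2, h3, mul_comm] at h1
  have h4 : 0 < ∏ i ∈ Finset.range m, (Nat.card F ^ (i + 1) - 1) := by
    refine Finset.prod_pos fun i _ => ?_
    have : 1 < Nat.card F ^ (i + 1) := Nat.one_lt_pow (by omega) hq
    omega
  exact Nat.eq_of_mul_eq_mul_left h4 h1

/-- divisibility of `q ^ n - 1` -/
theorem dvd_pow_sub {q n : ℕ} (hq : 1 ≤ q) : p ∣ q ^ n - 1 ↔ orderOf (q : ZMod p) ∣ n := by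
  rw [orderOf_dvd_iff_pow_eq_one, ← ZMod.natCast_eq_zero_iff, Nat.cast_sub (Nat.one_le_pow _ _ hq), Nat.cast_pow,
    Nat.cast_one, sub_eq_zero]

/-- `d` even: `p` divides the number of maximal totally singular subspaces -/
theorem dvd_card_max {F V : Type*} [Field F] [AddCommGroup V] [Module F V] [FiniteDimensional F V]
    {Q : QuadraticForm F V} [Finite F] {m : ℕ} (hm : 2 ≤ m) (h : Typ Q m 0)
    (hev : Even (orderOf ((Nat.card F : ℕ) : ZMod p))) (hd1 : 2 ≤ orderOf ((Nat.card F : ℕ) : ZMod p))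
    (hS : p ∣ (Nat.card F ^ m - 1) * ∏ i ∈ Finset.range (m - 1), (Nat.card F ^ (2 * (i + 1)) - 1)) :
    p ∣ Nat.card ((quadPol Q).X m) := by
  have hq : 1 < Nat.card F := Finite.one_lt_card
  obtain ⟨j, hj⟩ := hev
  have hj1 : 1 ≤ j := by omega
  -- `j ≤ m - 1`
  have hjm : j < m := by
    rcases hp.out.dvd_mul.1 hS with h1 | h1
    · have h2 := Nat.le_of_dvd (by omega) ((dvd_pow_sub hq.le).1 h1)
      omega
    · obtain ⟨i, hi, h2⟩ := (Prime.dvd_finset_prod_iff hp.out.prime _).1 h1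
      have h3 := Nat.le_of_dvd (by omega) ((dvd_pow_sub hq.le).1 h2)
      have h4 := Finset.mem_range.1 hi
      omega
  have h1 : p ∣ Nat.card F ^ j + 1 := by
    have h2 : p ∣ Nat.card F ^ (2 * j) - 1 := (dvd_pow_sub hq.le).2 (by rw [hj]; exact ⟨1, by ring⟩)
    have h3 : Nat.card F ^ (2 * j) - 1 = (Nat.card F ^ j + 1) * (Nat.card F ^ j - 1) := by
      rw [mul_comm 2 j, pow_mul, ← Nat.sq_sub_sq, one_pow]
    rw [h3] at h2
    rcases hp.out.dvd_mul.1 h2 with h4 | h4
    · exact h4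
    · have h5 := Nat.le_of_dvd hj1 ((dvd_pow_sub hq.le).1 h4)
      omega
  rw [card_max h]
  exact h1.trans (Finset.dvd_prod_of_mem _ (Finset.mem_range.2 hjm))

/-- **`PΩ⁺_{2m}(q)`, `m ≥ 5`**, without the two cases of cyclic Sylow subgroups -/
theorem rowZ_oplus_five {F : Type} [Field F] [Fintype F] {m : ℕ} (hm : 5 ≤ m) (hp2 : p ≠ 2) (hpF : (p : F) ≠ 0)
    (hd : p ∣ Nat.card (POmega F (quadFormPlus m F)))
    (hex : Odd (orderOf ((Nat.card F : ℕ) : ZMod p)) → 2 ≤ orderOf ((Nat.card F : ℕ) : ZMod p) →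
      m ≠ 2 * orderOf ((Nat.card F : ℕ) : ZMod p) - 1 ∧ m ≠ 2 * orderOf ((Nat.card F : ℕ) : ZMod p) - 2) :
    RowZ p (POmega F (quadFormPlus m F)) := by
  classical
  by_cases h1 : p ∣ Fintype.card F - 1
  · exact (H314.RatB.OPlus.rowInt_oplus hp2 (by omega) h1).rowZ
  have hpq := not_dvd_card hpF
  have hd2 : 2 ≤ orderOf ((Nat.card F : ℕ) : ZMod p) := by
    rw [Nat.card_eq_fintype_card]
    exact two_le_order hpq h1 Fintype.card_pos
  have ht := typ_plus F (m := m) (by omega)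
  have hG : Good (plusForm m F) := ht.good (by
    rw [Fintype.card_sum, Fintype.card_fin]
    omega)
  have hS : p ∣ (Nat.card F ^ m - 1) * ∏ i ∈ Finset.range (m - 1), (Nat.card F ^ (2 * (i + 1)) - 1) := by
    have h2 := S0293.result (F := F) rfl m (by omega)
    have h3 : p ∣ Fintype.card F ^ (m * (m - 1)) *
        ((Fintype.card F ^ m - 1) * ∏ i ∈ Finset.range (m - 1), (Fintype.card F ^ (2 * (i + 1)) - 1)) := by
      rw [← mul_assoc, ← h2]
      exact hd.mul_left _
    rw [Nat.card_eq_fintype_card]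
    rcases hp.out.dvd_mul.1 h3 with h4 | h4
    · exact absurd (hp.out.dvd_of_dvd_pow h4) hpq
    · exact h4
  have aut : ∀ a : MulAut (Cfsg.POmega F ⇑(plusForm m F)), (∃ k : ℕ, orderOf a = p ^ k) →
      ∃ M : (Fin m ⊕ Fin m → F) ≃+ (Fin m ⊕ Fin m → F), SemiAct (quadPol (plusForm m F)) M ∧
        Induces (omRho (plusForm m F)) (QuotientGroup.mk' (Subgroup.center (Cfsg.Omega F ⇑(plusForm m F)))) M a :=
    fun α _ => H987.BR.om_aut hG (quadPol (plusForm m F)) (fun _ _ => rfl) (fun _ => Iff.rfl)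
      (omRho (plusForm m F)) (fun _ _ => rfl)
      (H987.BR.gamAct_plus (by omega) rfl hG α (fun h4 => absurd h4 (by omega)))
  have hfin : Finite (Cfsg.isometryGroup F ⇑(plusForm m F)) := inferInstance
  rw [← coe_plusForm]
  rcases Nat.even_or_odd (orderOf ((Nat.card F : ℕ) : ZMod p)) with hev | hodd
  · exact rowZ_fam hp2 ht (by omega) hG aut (dvd_card_max (by omega) ht hev hd2 hS)
  · have hI := polInst_om hp2 ht hG (K := (m - 1) / 2) (by omega) (Or.inr (by omega)) aut
    refine hI.rowZ_plus (fun k hk => by omega) hp2 (by rw [Nat.card_eq_fintype_card]; exact hpq) hd2 hm hS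
      (hex hodd hd2).1 (Or.inl (hex hodd hd2).2) ?_
    rintro ⟨-, h4⟩
    rw [h4] at hodd
    exact absurd hodd (by decide)

end Cfsg.Agent.H636.BR
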